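import Mathlib

/-!
Stalk maps of affine charts.
-/

set_option autoImplicit false

universe u

open AlgebraicGeometry CategoryTheory

namespace Groth.Agent.ArtinApproxLib

/-- The stalk map of an affine chart on germs. -/
theorem germ_stalkMap_chart {X : Scheme.{u}} {V : X.Opens} (hV : IsAffineOpen V) {R : CommRingCat.{u}}
    (φ : Γ(X, V) ⟶ R) (u : Spec R) (h : (Spec.map φ ≫ hV.fromSpec) u ∈ V) (a : Γ(X, V)) :
    (Spec.map φ ≫ hV.fromSpec).stalkMap u (X.presheaf.germ V _ h a) = StructureSheaf.toStalk R u (φ a) := by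
  have h1 : StructureSheaf.toStalk R u (φ a) =
      (Spec R).presheaf.germ ⊤ u trivial ((Spec.map φ).appTop ((Scheme.ΓSpecIso Γ(X, V)).inv a)) := by
    rw [← CommRingCat.comp_apply _ (Spec.map φ).appTop, ← Scheme.ΓSpecIso_inv_naturality, CommRingCat.comp_apply]
    rfl
  rw [h1, Scheme.Hom.germ_stalkMap_apply, Scheme.Hom.comp_app, hV.fromSpec_app_self, Category.assoc, (Spec.map φ).naturality]
  show (Spec R).presheaf.germ _ u _ ((Spec R).presheaf.map _ ((Spec.map φ).appTop ((Scheme.ΓSpecIso Γ(X, V)).inv a))) = _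
  exact (Spec R).presheaf.germ_res_apply _ _ _ _

end Groth.Agent.ArtinApproxLib
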