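import Groth.Prelude.Def_Found
import Groth.Agent.SmoothingLib.Popescu
import Groth.Agent.RegLocal.Completion
import Groth.Agent.CMCat.ComplQuot
import Groth.Agent.Hensel.Lift
import Groth.Agent.Hensel.Basic
import Groth.Agent.PairHens.Fp
import Groth.Agent.SpreadLib.Basic

/-!
Approximation of solutions in a completion: factorisation through smooth algebras, lifting along
Henselian pairs and étale neighbourhoods.
-/

set_option autoImplicit false

universe u

open TensorProduct

namespace Groth.Agent.ArtinApproxLib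

open MvPolynomial (aeval)

theorem exists_smooth_factor {R Λ : Type u} [CommRing R] [IsNoetherianRing R] [CommRing Λ]
    [IsNoetherianRing Λ] [Algebra R Λ] (hreg : CAlg.IsRegularHom R Λ) {n m : ℕ}
    (F : Fin m → MvPolynomial (Fin n) R) (a : Fin n → Λ) (ha : ∀ j, aeval a (F j) = 0) :
    ∃ (B : Type u) (_ : CommRing B) (_ : Algebra R B), Algebra.Smooth R B ∧
      ∃ (b : Fin n → B) (π : B →ₐ[R] Λ), (∀ j, aeval b (F j) = 0) ∧ ∀ i, π (b i) = a i := by
  let K : Ideal (MvPolynomial (Fin n) R) := Ideal.span (Set.range F)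
  haveI : Algebra.FinitePresentation R (MvPolynomial (Fin n) R ⧸ K) :=
    Algebra.FinitePresentation.quotient (Submodule.fg_span (Set.finite_range F))
  have hle : K ≤ RingHom.ker (aeval (R := R) a).toRingHom :=
    Ideal.span_le.2 (by rintro _ ⟨j, rfl⟩; exact ha j)
  let φ : (MvPolynomial (Fin n) R ⧸ K) →ₐ[R] Λ := Ideal.Quotient.liftₐ K (aeval a) fun x hx => hle hx
  obtain ⟨B, _, _, hB, g, h, hgh⟩ :=
    SmoothingLib.indSmooth_of_isRegularHom hreg (MvPolynomial (Fin n) R ⧸ K) inferInstance φ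
  refine ⟨B, inferInstance, inferInstance, hB, fun i => g (Ideal.Quotient.mk K (MvPolynomial.X i)), h,
    fun j => ?_, fun i => ?_⟩
  · have h1 : aeval (fun i => g (Ideal.Quotient.mk K (MvPolynomial.X i))) =
        g.comp (Ideal.Quotient.mkₐ R K) := MvPolynomial.algHom_ext fun i => by simp
    rw [h1]
    show g (Ideal.Quotient.mk K (F j)) = 0
    rw [Ideal.Quotient.eq_zero_iff_mem.2 (Ideal.subset_span (Set.mem_range_self j) : F j ∈ K), map_zero]
  · rw [← AlgHom.comp_apply, hgh]
    show aeval a (MvPolynomial.X i) = a i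
    rw [MvPolynomial.aeval_X]

theorem mem_of_evalₐ_eq {A : Type u} [CommRing A] {I : Ideal A} (hfg : I.FG) (n : ℕ)
    (x : AdicCompletion I A) (r : A) (h : AdicCompletion.evalₐ I n x = Ideal.Quotient.mk (I ^ n) r) :
    x - algebraMap A (AdicCompletion I A) r ∈ (I ^ n).map (algebraMap A (AdicCompletion I A)) := by
  rw [← CMCat.evalₐ_eq_zero_iff hfg, map_sub, AlgHom.commutes, h, Ideal.Quotient.algebraMap_eq, sub_self]

/-- Approximation at a Henselian pair with regular completion map. -/
theorem exists_approx {A : Type u} [CommRing A] [IsNoetherianRing A] (I : Ideal A) [HenselianRing A I]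
    (hreg : CAlg.IsRegularHom A (AdicCompletion I A)) {n m : ℕ} (F : Fin m → MvPolynomial (Fin n) A)
    (a : Fin n → AdicCompletion I A) (ha : ∀ j, aeval a (F j) = 0) (N : ℕ) :
    ∃ b : Fin n → A, (∀ j, aeval b (F j) = 0) ∧
      ∀ i, a i - algebraMap A (AdicCompletion I A) (b i) ∈ (I ^ N).map (algebraMap A (AdicCompletion I A)) := by
  haveI := RegLocal.isNoetherianRing_completion A I
  obtain ⟨B, _, _, hB, b₀, π, hb₀, hπ⟩ := exists_smooth_factor hreg F a ha
  haveI := hB
  haveI : HenselianRing A (I ^ (N + 1)) := Hensel.of_le (Ideal.pow_le_self (Nat.succ_ne_zero N))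
  obtain ⟨τ, hτ⟩ := Hensel.exists_algHom_of_smooth (I := I ^ (N + 1))
    ((AdicCompletion.evalₐ I (N + 1)).comp π)
  refine ⟨fun i => τ (b₀ i), fun j => ?_, fun i => ?_⟩
  · rw [← MvPolynomial.comp_aeval, AlgHom.comp_apply, hb₀, map_zero]
  · refine Ideal.map_mono (Ideal.pow_le_pow_right (Nat.le_succ N))
      (mem_of_evalₐ_eq I.fg_of_isNoetherianRing (N + 1) _ _ ?_)
    rw [← hπ i]
    exact (AlgHom.congr_fun hτ (b₀ i)).symm

/-- Sections of smooth algebras modulo an ideal lift to an étale neighbourhood. -/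
theorem exists_etale_section {A B : Type u} [CommRing A] [CommRing B] [Algebra A B]
    [Algebra.Smooth A B] (I : Ideal A) (σ : B →ₐ[A] A ⧸ I) :
    ∃ (A' : Type u) (_ : CommRing A') (_ : Algebra A A'), Algebra.Etale A A' ∧
      Function.Bijective (Ideal.quotientMap (I.map (algebraMap A A')) (algebraMap A A') Ideal.le_comap_map) ∧
      ∃ τ : B →ₐ[A] A', ∀ b : B,
        Ideal.Quotient.mk (I.map (algebraMap A A')) (τ b) =
          Ideal.quotientMap (I.map (algebraMap A A')) (algebraMap A A') Ideal.le_comap_map (σ b) := by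
  classical
  let H := PairHens.Hz A I
  have hH : Hens2.IsPairHenselization A I H := PairHens.isPairHenselization A I
  let c : A ⧸ I →ₐ[A] H ⧸ I.map (algebraMap A H) :=
    Ideal.quotientMapₐ _ (Algebra.ofId A H) Ideal.le_comap_map
  obtain ⟨τH, hτH⟩ := Hensel.exists_algHom_of_smooth (A := H) (I := I.map (algebraMap A H)) (c.comp σ)
  have hεσ : ∀ b, PairHens.εH A I (τH b) = σ b := by
    intro b
    obtain ⟨r, hr⟩ := Ideal.Quotient.mk_surjective (σ b)
    have h1 : Ideal.Quotient.mk (I.map (algebraMap A H)) (τH b) =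
        Ideal.Quotient.mk _ (algebraMap A H r) := by
      refine (AlgHom.congr_fun hτH b).trans ?_
      show c (σ b) = _
      rw [← hr]
      rfl
    have h2 := (PairHens.mem_map_iff _).1 (Ideal.Quotient.eq.1 h1)
    rw [map_sub, AlgHom.commutes, sub_eq_zero] at h2
    rw [h2, ← hr]
    rfl
  obtain ⟨k, π, hπ, s, hs⟩ := Algebra.FinitePresentation.out (R := A) (A := B)
  obtain ⟨S, _, _, _, -, φ, hφ⟩ := PairHens.exists_nbhd_finset hH
    (Finset.univ.image fun i => τH (π (MvPolynomial.X i)))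
  choose y hy using fun i => hφ (Finset.mem_image_of_mem (fun i => τH (π (MvPolynomial.X i))) (Finset.mem_univ i))
  have hcomp : φ.comp (aeval y) = τH.comp π := MvPolynomial.algHom_ext fun i => by simp [hy]
  have hkill : ∀ r ∈ s, ∃ t : S, IsUnit (PairHens.εH A I (φ t)) ∧ t * aeval y r = 0 := fun r hr => by
    refine PairHens.exists_killed φ _ ?_
    rw [← AlgHom.comp_apply, hcomp]
    show τH (π r) = 0
    rw [show π r = 0 from RingHom.mem_ker.1 (hs ▸ Ideal.subset_span hr), map_zero]
  choose t ht ht0 using hkill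
  let T : S := ∏ r ∈ s.attach, t r.1 r.2
  let σS : S →ₐ[A] A ⧸ I := (PairHens.εH A I).comp φ
  have hT : IsUnit (σS T) := by
    rw [map_prod]
    exact IsUnit.prod_iff.2 fun r _ => ht r.1 r.2
  obtain ⟨v, hv, hTv, hbij⟩ := PairHens.exists_away σS T hT
  let A' := Localization.Away v
  haveI : Algebra.Etale A (Localization.Away v) :=
    haveI := Algebra.Etale.of_isLocalizationAway (R := S) (A := Localization.Away v) v
    Algebra.Etale.comp A S _
  let ι : S →ₐ[A] Localization.Away v := IsScalarTower.toAlgHom A S _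
  have hle : RingHom.ker π.toRingHom ≤ RingHom.ker (ι.comp (aeval y)).toRingHom := by
    rw [← hs, Ideal.span_le]
    intro r hr
    show ι (aeval y r) = 0
    have h0 := congrArg ι (ht0 r hr)
    rw [map_mul, map_zero] at h0
    refine (IsUnit.mul_right_eq_zero ?_).1 h0
    exact isUnit_of_dvd_unit (map_dvd ι
      ((Finset.dvd_prod_of_mem (fun z : s => t z.1 z.2) (Finset.mem_attach s ⟨r, hr⟩)).trans hTv))
      (IsLocalization.Away.algebraMap_isUnit v)
  let τ : B →ₐ[A] Localization.Away v := AlgHom.liftOfSurjective π hπ (ι.comp (aeval y)) hle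
  refine ⟨Localization.Away v, inferInstance, inferInstance, inferInstance, hbij, τ, fun b => ?_⟩
  -- both sides are determined by the point of the neighbourhood
  let σA : Localization.Away v →ₐ[A] A ⧸ I :=
    IsLocalization.liftAlgHom (M := Submonoid.powers v) (f := σS) (by
      rintro ⟨_, j, rfl⟩
      rw [map_pow]; exact hv.pow j)
  obtain ⟨p, rfl⟩ := hπ b
  have hσA : σA (τ (π p)) = σ (π p) := by
    rw [AlgHom.liftOfSurjective_apply]
    show σA (algebraMap S _ (aeval y p)) = _
    rw [show σA (algebraMap S _ (aeval y p)) = σS (aeval y p) from IsLocalization.lift_eq _ _]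
    show PairHens.εH A I ((φ.comp (aeval y)) p) = _
    rw [hcomp]
    exact hεσ _
  obtain ⟨q, hq⟩ := hbij.2 (Ideal.Quotient.mk _ (τ (π p)))
  obtain ⟨r, rfl⟩ := Ideal.Quotient.mk_surjective q
  rw [Ideal.quotientMap_mk] at hq
  have hσr : σA (τ (π p)) = Ideal.Quotient.mk I r := by
    have h1 : σA (τ (π p) - algebraMap A _ r) = 0 := by
      have hker : I.map (algebraMap A (Localization.Away v)) ≤ RingHom.ker σA.toRingHom :=
        Ideal.map_le_iff_le_comap.2 fun x hx => by
          show σA (algebraMap A _ x) = 0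
          rw [AlgHom.commutes, Ideal.Quotient.algebraMap_eq, Ideal.Quotient.eq_zero_iff_mem]
          exact hx
      exact hker (Ideal.Quotient.eq.1 hq.symm)
    rw [map_sub, AlgHom.commutes, sub_eq_zero] at h1
    exact h1
  rw [← hσA, hσr, Ideal.quotientMap_mk, hq]

/-- An étale neighbourhood carrying a solution, with comparison map to a Henselian target. -/
theorem exists_etale_solution {R Λ B : Type u} [CommRing R] [CommRing Λ] [Algebra R Λ] [CommRing B]
    [Algebra R B] [Algebra.Smooth R B] (I : Ideal R) (J : Ideal Λ) [HenselianRing Λ J]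
    (hIJ : I.map (algebraMap R Λ) ≤ J) (π : B →ₐ[R] Λ) (σ : B →ₐ[R] R ⧸ I)
    (hσ : ∀ x r, σ x = Ideal.Quotient.mk I r → π x - algebraMap R Λ r ∈ J) :
    ∃ (R' : Type u) (_ : CommRing R') (_ : Algebra R R'), Algebra.Etale R R' ∧
      ∃ (τ : B →ₐ[R] R') (ψ : R' →ₐ[R] Λ), (∀ x, π x - ψ (τ x) ∈ J) ∧
        (∀ x ∈ I.map (algebraMap R R'), ψ x ∈ J) ∧
        ∀ x : R', ∃ r : R, x - algebraMap R R' r ∈ I.map (algebraMap R R') := by
  obtain ⟨R', _, _, hR', hbij, τ, hτ⟩ := exists_etale_section I σ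
  haveI := hR'
  let qe : R ⧸ I →ₐ[R] R' ⧸ I.map (algebraMap R R') :=
    Ideal.quotientMapₐ _ (Algebra.ofId R R') Ideal.le_comap_map
  let e := AlgEquiv.ofBijective qe hbij
  let c : R ⧸ I →ₐ[R] Λ ⧸ J :=
    Ideal.quotientMapₐ _ (Algebra.ofId R Λ) (Ideal.map_le_iff_le_comap.1 hIJ)
  obtain ⟨ψ, hψ⟩ := Hensel.exists_algHom_of_etale (R := R) (A := Λ) (I := J) (E := R')
    ((c.comp e.symm.toAlgHom).comp (Ideal.Quotient.mkₐ R _))
  have hψI : ∀ x ∈ I.map (algebraMap R R'), ψ x ∈ J := fun x hx => by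
    have h1 : I.map (algebraMap R R') ≤ J.comap ψ.toRingHom := by
      rw [Ideal.map_le_iff_le_comap]
      intro r hr
      show ψ (algebraMap R R' r) ∈ J
      rw [ψ.commutes]
      exact hIJ (Ideal.mem_map_of_mem _ hr)
    exact h1 hx
  have hres : ∀ x : R', ∃ r : R, x - algebraMap R R' r ∈ I.map (algebraMap R R') := fun x => by
    obtain ⟨q, hq⟩ := hbij.2 (Ideal.Quotient.mk _ x)
    obtain ⟨r, rfl⟩ := Ideal.Quotient.mk_surjective q
    rw [Ideal.quotientMap_mk] at hq
    exact ⟨r, Ideal.Quotient.eq.1 hq.symm⟩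
  refine ⟨R', inferInstance, inferInstance, hR', τ, ψ, fun x => ?_, hψI, hres⟩
  obtain ⟨r, hr⟩ := Ideal.Quotient.mk_surjective (σ x)
  have h1 := hτ x
  rw [← hr, Ideal.quotientMap_mk, Ideal.Quotient.eq] at h1
  have h2 := hψI _ h1
  rw [map_sub, ψ.commutes] at h2
  simpa using sub_mem (hσ x r hr.symm) h2

end Groth.Agent.ArtinApproxLib
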