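import Groth.Agent.EtLocalLib.Completion
import Groth.Agent.EtLocalLib.LocalEtale
import Groth.Agent.CMCat.ComplQuot
import Groth.Agent.ArtinApproxLib.Core

/-!
Étaleness from approximations of an isomorphism of completions.
-/

set_option autoImplicit false

universe u

open IsLocalRing

namespace Groth.Agent.ArtinApproxLib

/-- A surjective endomorphism of a Noetherian ring is injective. -/
theorem injective_of_surjective_ringEndo {R : Type u} [CommRing R] [IsNoetherianRing R] (g : R →+* R)
    (hg : Function.Surjective g) : Function.Injective g := by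
  let p : ℕ → (R →+* R) := fun n => Nat.rec (RingHom.id R) (fun _ h => g.comp h) n
  have hp : ∀ n x, p (n + 1) x = g (p n x) := fun n x => rfl
  have hmono : Monotone fun n => RingHom.ker (p n) := monotone_nat_of_le_succ fun n x hx => by
    show p (n + 1) x = 0
    rw [hp, show p n x = 0 from hx, map_zero]
  obtain ⟨n, hn⟩ := monotone_stabilizes_iff_noetherian.2 ‹IsNoetherianRing R› ⟨fun n => RingHom.ker (p n), hmono⟩
  have hps : ∀ n, Function.Surjective (p n) := fun n => by
    induction n with
    | zero => exact fun x => ⟨x, rfl⟩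
    | succ n ih => exact hg.comp ih
  rw [injective_iff_map_eq_zero]
  intro x hx
  obtain ⟨y, rfl⟩ := hps n x
  have h1 : y ∈ RingHom.ker (p (n + 1)) := hx
  have h2 : RingHom.ker (p n) = RingHom.ker (p (n + 1)) := hn (n + 1) (Nat.le_succ n)
  rw [← h2] at h1
  exact h1

/-- A local map with `m L = m_L` and no residue extension is surjective on completions. -/
theorem complHom_surjective {A L : Type u} [CommRing A] [CommRing L] [IsLocalRing A] [IsLocalRing L]
    [IsNoetherianRing A] [IsNoetherianRing L] (f : A →+* L)
    (hm : (maximalIdeal A).map f = maximalIdeal L) (hres : ∀ z : L, ∃ a, z - f a ∈ maximalIdeal L) :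
    Function.Surjective (CMCat.complHom f (maximalIdeal A) (maximalIdeal L) hm.le) := by
  haveI : IsLocalHom f := ((local_hom_TFAE f).out 0 2 rfl rfl).mpr hm.le
  letI : Algebra A L := f.toAlgebra
  haveI : IsLocalHom (algebraMap A L) := ‹IsLocalHom f›
  letI : Algebra (AdicCompletion (maximalIdeal A) A) (AdicCompletion (maximalIdeal L) L) :=
    (CMCat.complHom f (maximalIdeal A) (maximalIdeal L) hm.le).toAlgebra
  haveI : IsScalarTower A (AdicCompletion (maximalIdeal A) A) (AdicCompletion (maximalIdeal L) L) :=
    IsScalarTower.of_algebraMap_eq fun a => by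
      rw [IsScalarTower.algebraMap_apply A L]
      exact (CMCat.complHom_algebraMap f _ _ hm.le a).symm
  haveI : Module.Finite (ResidueField A) (ResidueField L) := by
    refine Module.Finite.of_surjective (Algebra.linearMap (ResidueField A) (ResidueField L)) fun x => ?_
    obtain ⟨z, rfl⟩ := residue_surjective x
    obtain ⟨a, ha⟩ := hres z
    exact ⟨residue A a, ((ResidueField.map_residue f a).trans (Ideal.Quotient.eq.2 ha).symm)⟩
  have hfin := EtLocalLib.finite_completion (A := A) (B := L) hm
  haveI := hfin
  haveI := RegLocal.isLocalRing_completion A _ (maximalIdeal.isMaximal A).ne_top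
  intro y
  have htop : (⊤ : Submodule (AdicCompletion (maximalIdeal A) A) (AdicCompletion (maximalIdeal L) L)) ≤
      LinearMap.range (Algebra.linearMap (AdicCompletion (maximalIdeal A) A) (AdicCompletion (maximalIdeal L) L)) := by
    refine Submodule.le_of_le_smul_of_le_jacobson_bot hfin.fg_top (maximalIdeal_le_jacobson _) fun y _ => ?_
    obtain ⟨x, hx⟩ := (EtLocalLib.bijective_residueField_completion (A := L)).2 (residue _ y)
    obtain ⟨z, rfl⟩ := residue_surjective x
    obtain ⟨a, ha⟩ := hres z
    refine Submodule.mem_sup.mpr ⟨algebraMap A (AdicCompletion (maximalIdeal L) L) a,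
      ⟨algebraMap A _ a, (IsScalarTower.algebraMap_apply A (AdicCompletion (maximalIdeal A) A) _ a).symm⟩,
      y - algebraMap A _ a, ?_, add_sub_cancel _ _⟩
    rw [Ideal.smul_top_eq_map, Submodule.restrictScalars_mem, EtLocalLib.map_eq_iff.mpr hm,
      ← residue_eq_zero_iff, map_sub, sub_eq_zero, ← hx, ResidueField.map_residue,
      IsScalarTower.algebraMap_apply A L (AdicCompletion (maximalIdeal L) L)]
    refine Ideal.Quotient.eq.2 ?_
    rw [← map_sub, AdicCompletion.maximalIdeal_eq_map]
    exact Ideal.mem_map_of_mem _ ha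
  obtain ⟨c, hc⟩ := htop (Submodule.mem_top (x := y))
  exact ⟨c, hc⟩

/-- A map approximating an isomorphism of completions to second order is étale. -/
theorem flat_of_approx_iso {A B L : Type u} [CommRing A] [CommRing B] [CommRing L] [IsLocalRing A]
    [IsLocalRing B] [IsLocalRing L] [IsNoetherianRing A] [IsNoetherianRing B] [IsNoetherianRing L]
    (e : B →+* L) (f : A →+* L) [IsLocalHom f] (he : e.Flat) (hem : (maximalIdeal B).map e = maximalIdeal L)
    (heres : ∀ z : L, ∃ c, z - e c ∈ maximalIdeal L)
    (φ : AdicCompletion (maximalIdeal A) A ≃+* AdicCompletion (maximalIdeal B) B) (N : ℕ) (hN : 2 ≤ N)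
    (hcong : ∀ a c, AdicCompletion.evalₐ (maximalIdeal B) N (φ (algebraMap A _ a)) =
      Ideal.Quotient.mk (maximalIdeal B ^ N) c → f a - e c ∈ maximalIdeal L ^ N) :
    f.Flat ∧ (maximalIdeal A).map f = maximalIdeal L ∧ ∀ z : L, ∃ a, z - f a ∈ maximalIdeal L := by
  haveI := RegLocal.isLocalRing_completion A _ (maximalIdeal.isMaximal A).ne_top
  haveI := RegLocal.isLocalRing_completion B _ (maximalIdeal.isMaximal B).ne_top
  haveI := RegLocal.isNoetherianRing_completion A (maximalIdeal A)
  haveI : IsLocalHom (φ : AdicCompletion (maximalIdeal A) A →+* AdicCompletion (maximalIdeal B) B) :=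
    Function.Surjective.isLocalHom _ φ.surjective
  have hφmax : (maximalIdeal (AdicCompletion (maximalIdeal A) A)).map
      (φ : AdicCompletion (maximalIdeal A) A →+* AdicCompletion (maximalIdeal B) B) ≤
      maximalIdeal (AdicCompletion (maximalIdeal B) B) :=
    ((local_hom_TFAE _).out 0 2 rfl rfl).mp inferInstance
  -- lifts of truncations of the inverse
  have hlift : ∀ c : B, ∃ a : A, AdicCompletion.evalₐ (maximalIdeal B) N (φ (algebraMap A _ a)) =
      Ideal.Quotient.mk (maximalIdeal B ^ N) c := by
    intro c
    obtain ⟨a, ha⟩ := Ideal.Quotient.mk_surjective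
      (AdicCompletion.evalₐ (maximalIdeal A) N (φ.symm (algebraMap B _ c)))
    refine ⟨a, ?_⟩
    have h1 := mem_of_evalₐ_eq (maximalIdeal A).fg_of_isNoetherianRing N _ _ ha.symm
    rw [Ideal.map_pow, ← AdicCompletion.maximalIdeal_eq_map] at h1
    have h2 := Ideal.pow_right_mono hφmax N (by rw [← Ideal.map_pow]; exact Ideal.mem_map_of_mem _ h1)
    rw [RingHom.coe_coe, map_sub, φ.apply_symm_apply, AdicCompletion.maximalIdeal_eq_map, ← Ideal.map_pow,
      ← CMCat.evalₐ_eq_zero_iff (maximalIdeal B).fg_of_isNoetherianRing, map_sub, sub_eq_zero, AlgHom.commutes,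
      Ideal.Quotient.algebraMap_eq] at h2
    exact h2.symm
  have hres : ∀ z : L, ∃ a, z - f a ∈ maximalIdeal L := by
    intro z
    obtain ⟨c, hc⟩ := heres z
    obtain ⟨a, ha⟩ := hlift c
    refine ⟨a, ?_⟩
    have := sub_mem hc (Ideal.pow_le_self (by omega) (hcong a c ha))
    simpa using this
  have hm : (maximalIdeal A).map f = maximalIdeal L := by
    have hle : (maximalIdeal A).map f ≤ maximalIdeal L := ((local_hom_TFAE f).out 0 2 rfl rfl).mp inferInstance
    refine le_antisymm hle ?_
    refine Submodule.le_of_le_smul_of_le_jacobson_bot (maximalIdeal L).fg_of_isNoetherianRing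
      (maximalIdeal_le_jacobson _) ?_
    rw [smul_eq_mul, ← pow_two]
    conv_lhs => rw [← hem]
    rw [Ideal.map_le_iff_le_comap]
    intro c hc
    obtain ⟨a, ha⟩ := hlift c
    have h1 : f a - e c ∈ maximalIdeal L ^ 2 := Ideal.pow_le_pow_right hN (hcong a c ha)
    have hec : e c ∈ maximalIdeal L := hem.le (Ideal.mem_map_of_mem e hc)
    have ha' : a ∈ maximalIdeal A := by
      have h2 : f a ∈ maximalIdeal L := by simpa using add_mem (Ideal.pow_le_self two_ne_zero h1) hec
      by_contra ha'
      rw [mem_maximalIdeal, mem_nonunits_iff, not_not] at ha'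
      exact (mem_maximalIdeal _).1 h2 (ha'.map f)
    rw [Ideal.mem_comap]
    simpa using sub_mem (Submodule.mem_sup_left (T := maximalIdeal L ^ 2) (Ideal.mem_map_of_mem f ha'))
      (Submodule.mem_sup_right (S := (maximalIdeal A).map f) h1)
  refine ⟨?_, hm, hres⟩
  -- the completion of `f` is bijective
  have hF := complHom_surjective f hm hres
  let F := CMCat.complHom f (maximalIdeal A) (maximalIdeal L) hm.le
  have hE := complHom_surjective e hem heres
  let E := CMCat.complHom e (maximalIdeal B) (maximalIdeal L) hem.le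
  have hEinj : Function.Injective E := by
    haveI : IsLocalHom e := ((local_hom_TFAE e).out 0 2 rfl rfl).mpr hem.le
    letI : Algebra B L := e.toAlgebra
    haveI : IsLocalHom (algebraMap B L) := ‹IsLocalHom e›
    haveI : Module.Flat B L := he
    intro x y hxy
    refine AdicCompletion.ext_evalₐ fun k => ?_
    obtain ⟨a, ha⟩ := Ideal.Quotient.mk_surjective (AdicCompletion.evalₐ (maximalIdeal B) k (x - y))
    have h0 := mem_of_evalₐ_eq (maximalIdeal B).fg_of_isNoetherianRing k _ _ ha.symm
    have h1 : AdicCompletion.evalₐ (maximalIdeal L) k (E (algebraMap B _ a)) = 0 := by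
      have h2 : E (x - y - algebraMap B _ a) ∈ ((maximalIdeal L) ^ k).map (algebraMap L _) := by
        have := Ideal.mem_map_of_mem E h0
        rw [Ideal.map_map, show E.comp (algebraMap B _) = (algebraMap L _).comp e from
          RingHom.ext (CMCat.complHom_algebraMap e _ _ _), ← Ideal.map_map, Ideal.map_pow, hem] at this
        exact this
      rw [CMCat.evalₐ_eq_zero_iff (maximalIdeal L).fg_of_isNoetherianRing]
      rw [map_sub, map_sub, sub_eq_zero.2 hxy, zero_sub] at h2
      exact (Submodule.neg_mem_iff _).1 h2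
    rw [show E (algebraMap B _ a) = algebraMap L _ (e a) from CMCat.complHom_algebraMap e _ _ _ a,
      AlgHom.commutes, Ideal.Quotient.algebraMap_eq, Ideal.Quotient.eq_zero_iff_mem, ← hem, ← Ideal.map_pow] at h1
    haveI : Module.FaithfullyFlat B L := Module.FaithfullyFlat.of_flat_of_isLocalHom
    have h3 : a ∈ maximalIdeal B ^ k := by
      rw [← Ideal.comap_map_eq_self_of_faithfullyFlat (B := L) (maximalIdeal B ^ k)]
      exact h1
    rw [← sub_eq_zero, ← map_sub, ← ha, Ideal.Quotient.eq_zero_iff_mem]
    exact h3
  let eE := RingEquiv.ofBijective E ⟨hEinj, hE⟩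
  let G : AdicCompletion (maximalIdeal A) A →+* AdicCompletion (maximalIdeal A) A :=
    ((eE.trans (RingEquiv.refl _)).symm.trans φ.symm).toRingHom.comp F
  have hG : Function.Injective G := injective_of_surjective_ringEndo G
    ((((eE.trans (RingEquiv.refl _)).symm.trans φ.symm)).surjective.comp hF)
  have hFinj : Function.Injective F := fun x y h => hG (by
    show (((eE.trans (RingEquiv.refl _)).symm.trans φ.symm)) (F x) = (((eE.trans (RingEquiv.refl _)).symm.trans φ.symm)) (F y)
    rw [h])
  letI : Algebra A L := f.toAlgebra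
  haveI : IsLocalHom (algebraMap A L) := ‹IsLocalHom f›
  show Module.Flat A L
  haveI hT : IsScalarTower A L (AdicCompletion (maximalIdeal L) L) := inferInstance
  haveI : Module.Flat A (AdicCompletion (maximalIdeal L) L) := by
    haveI : Module.Flat A (AdicCompletion (maximalIdeal A) A) := AdicCompletion.flat_of_isNoetherian _
    exact Module.Flat.of_linearEquiv (AlgEquiv.ofBijective
      ({ F with commutes' := fun a => (CMCat.complHom_algebraMap f _ _ hm.le a).trans (IsScalarTower.algebraMap_apply A L (AdicCompletion (maximalIdeal L) L) a).symm } :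
        AdicCompletion (maximalIdeal A) A →ₐ[A] AdicCompletion (maximalIdeal L) L) ⟨hFinj, hF⟩).toLinearEquiv.symm
  haveI := EtLocalLib.faithfullyFlat_completion_self (B := L)
  exact EtLocalLib.flat_of_flat_of_faithfullyFlat A L (AdicCompletion (maximalIdeal L) L)

end Groth.Agent.ArtinApproxLib
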