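import Groth.Agent.ArtinApproxLib.Core
import Groth.Agent.S9183

/-!
Approximation for functors commuting with filtered colimits.
-/

set_option autoImplicit false

universe u

open CategoryTheory CategoryTheory.Limits

namespace Groth.Agent.ArtinApproxLib

/-- The morphism in the category of algebras given by an algebra map. -/
noncomputable def underHom {A B C : Type u} [CommRing A] [CommRing B] [CommRing C] [Algebra A B] [Algebra A C]
    (f : B →ₐ[A] C) : Under.mk (CommRingCat.ofHom (algebraMap A B)) ⟶ Under.mk (CommRingCat.ofHom (algebraMap A C)) :=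
  Under.homMk (CommRingCat.ofHom f.toRingHom) (CommRingCat.hom_ext f.comp_algebraMap)

theorem underHom_comp {A B C D : Type u} [CommRing A] [CommRing B] [CommRing C] [CommRing D] [Algebra A B]
    [Algebra A C] [Algebra A D] (f : B →ₐ[A] C) (g : C →ₐ[A] D) :
    underHom (g.comp f) = underHom f ≫ underHom g :=
  Under.UnderMorphism.ext rfl

/-- An element at a regular target comes from a smooth algebra. -/
theorem exists_smooth_element {A Λ : Type u} [CommRing A] [IsNoetherianRing A] [CommRing Λ] [IsNoetherianRing Λ]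
    [Algebra A Λ] (hreg : CAlg.IsRegularHom A Λ) (F : Under (CommRingCat.of A) ⥤ Type u)
    (hF : ∀ (J : Type u) [SmallCategory J] [IsFiltered J], PreservesColimitsOfShape J F)
    (ξ : F.obj (Under.mk (CommRingCat.ofHom (algebraMap A Λ)))) :
    ∃ (B : Type u) (_ : CommRing B) (_ : Algebra A B), Algebra.Smooth A B ∧
      ∃ (π : B →ₐ[A] Λ) (ξB : F.obj (Under.mk (CommRingCat.ofHom (algebraMap A B)))),
        F.map (underHom π) ξB = ξ := by
  obtain ⟨J, _, _, D, c, hc, hfp, ⟨e⟩⟩ := S9183.result A Λ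
  haveI := hF J
  obtain ⟨i, y, hy⟩ := Types.jointly_surjective_of_isColimit (isColimitOfPreserves F hc) (F.map e.inv ξ)
  let φ := c.ι.app i ≫ e.hom
  have hξ : F.map φ y = ξ := by
    show F.map (c.ι.app i ≫ e.hom) y = ξ
    rw [Functor.map_comp, ConcreteCategory.comp_apply]
    have hy' : F.map (c.ι.app i) y = F.map e.inv ξ := hy
    rw [hy', ← ConcreteCategory.comp_apply, ← Functor.map_comp, e.inv_hom_id]
    simp
  let C : Type u := (D.obj i).right
  letI : Algebra A (D.obj i).right := (D.obj i).hom.hom.toAlgebra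
  haveI : Algebra.FinitePresentation A (D.obj i).right := hfp i
  let f : (D.obj i).right →ₐ[A] Λ :=
    { φ.right.hom with
      commutes' := fun a => congr($(Under.w φ).hom a) }
  obtain ⟨B, _, _, hB, g, h, hgh⟩ := SmoothingLib.indSmooth_of_isRegularHom hreg (D.obj i).right inferInstance f
  let γ : D.obj i ⟶ Under.mk (CommRingCat.ofHom (algebraMap A B)) :=
    Under.homMk (CommRingCat.ofHom g.toRingHom) (CommRingCat.hom_ext (RingHom.ext g.commutes))
  refine ⟨B, inferInstance, inferInstance, hB, h, F.map γ y, ?_⟩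
  rw [← ConcreteCategory.comp_apply, ← Functor.map_comp, ← hξ]
  congr 3
  refine Under.UnderMorphism.ext (CommRingCat.hom_ext ?_)
  exact congrArg AlgHom.toRingHom hgh

/-- Approximation of an element over a Henselian pair. -/
theorem exists_approx_element {A : Type u} [CommRing A] [IsNoetherianRing A] (I : Ideal A) [HenselianRing A I]
    (hreg : CAlg.IsRegularHom A (AdicCompletion I A)) (F : Under (CommRingCat.of A) ⥤ Type u)
    (hF : ∀ (J : Type u) [SmallCategory J] [IsFiltered J], PreservesColimitsOfShape J F) (N : ℕ)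
    (π : Under.mk (CommRingCat.ofHom (algebraMap A (AdicCompletion I A))) ⟶
      Under.mk (CommRingCat.ofHom (algebraMap A (A ⧸ I ^ (N + 1)))))
    (hπ : π.right = CommRingCat.ofHom
      (AdicCompletion.evalₐ I (N + 1) : AdicCompletion I A →ₐ[A] A ⧸ I ^ (N + 1)).toRingHom)
    (ρ : Under.mk (𝟙 (CommRingCat.of A)) ⟶ Under.mk (CommRingCat.ofHom (algebraMap A (A ⧸ I ^ (N + 1)))))
    (ξ : F.obj (Under.mk (CommRingCat.ofHom (algebraMap A (AdicCompletion I A))))) :
    ∃ η : F.obj (Under.mk (𝟙 (CommRingCat.of A))), F.map ρ η = F.map π ξ := by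
  haveI := RegLocal.isNoetherianRing_completion A I
  obtain ⟨B, _, _, hB, q, ξB, hξ⟩ := exists_smooth_element hreg F hF ξ
  haveI := hB
  haveI : HenselianRing A (I ^ (N + 1)) := Hensel.of_le (Ideal.pow_le_self (Nat.succ_ne_zero N))
  obtain ⟨τ, hτ⟩ := Hensel.exists_algHom_of_smooth (I := I ^ (N + 1))
    ((AdicCompletion.evalₐ I (N + 1)).comp q)
  let δ : Under.mk (CommRingCat.ofHom (algebraMap A B)) ⟶ Under.mk (𝟙 (CommRingCat.of A)) :=
    Under.homMk (CommRingCat.ofHom τ.toRingHom) (CommRingCat.hom_ext (RingHom.ext τ.commutes))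
  refine ⟨F.map δ ξB, ?_⟩
  rw [← hξ, ← ConcreteCategory.comp_apply, ← Functor.map_comp, ← ConcreteCategory.comp_apply,
    ← Functor.map_comp]
  congr 3
  refine Under.UnderMorphism.ext (CommRingCat.hom_ext (RingHom.ext fun b => ?_))
  have hρ : ∀ a : A, ρ.right.hom a = Ideal.Quotient.mk (I ^ (N + 1)) a := fun a => congr($(Under.w ρ).hom a)
  show ρ.right.hom (τ b) = π.right.hom (q b)
  rw [hρ, hπ]
  exact AlgHom.congr_fun hτ b

/-- An element over an étale neighbourhood of any order. -/
theorem exists_etale_element {A : Type u} [CommRing A] [IsNoetherianRing A] (I : Ideal A)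
    (hreg : CAlg.IsRegularHom A (AdicCompletion I A)) (F : Under (CommRingCat.of A) ⥤ Type u)
    (hF : ∀ (J : Type u) [SmallCategory J] [IsFiltered J], PreservesColimitsOfShape J F) (N : ℕ)
    (ξ : F.obj (Under.mk (CommRingCat.ofHom (algebraMap A (AdicCompletion I A))))) :
    ∃ (A' : Type u) (_ : CommRing A') (_ : Algebra A A') (_ : Algebra.Etale A A')
      (φ : A' →ₐ[A] A ⧸ I ^ (N + 1)), Function.Surjective φ ∧
      ∃ ξ' : F.obj (Under.mk (CommRingCat.ofHom (algebraMap A A'))),
        F.map (underHom φ) ξ' = F.map (underHom (AdicCompletion.evalₐ I (N + 1))) ξ := by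
  haveI := RegLocal.isNoetherianRing_completion A I
  obtain ⟨B, _, _, hB, q, ξB, hξ⟩ := exists_smooth_element hreg F hF ξ
  haveI := hB
  obtain ⟨A', _, _, hA', hbij, τ, hτ⟩ := exists_etale_section (I ^ (N + 1))
    ((AdicCompletion.evalₐ I (N + 1)).comp q)
  let e := AlgEquiv.ofBijective
    (Ideal.quotientMapₐ ((I ^ (N + 1)).map (algebraMap A A')) (Algebra.ofId A A') Ideal.le_comap_map) hbij
  let φ : A' →ₐ[A] A ⧸ I ^ (N + 1) := e.symm.toAlgHom.comp (Ideal.Quotient.mkₐ A _)
  refine ⟨A', inferInstance, inferInstance, hA', φ,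
    e.symm.surjective.comp Ideal.Quotient.mk_surjective, F.map (underHom τ) ξB, ?_⟩
  rw [← hξ, ← ConcreteCategory.comp_apply, ← Functor.map_comp, ← ConcreteCategory.comp_apply,
    ← Functor.map_comp, ← underHom_comp, ← underHom_comp]
  congr 4
  refine AlgHom.ext fun b => ?_
  show e.symm (Ideal.Quotient.mk _ (τ b)) = _
  rw [hτ b]
  exact e.symm_apply_apply _

end Groth.Agent.ArtinApproxLib
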