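import Groth.Agent.ArtinApproxLib.Core
import Groth.Agent.GRingCompleteLib.Completion
import Groth.Agent.RegHomLib.Local
import Groth.Agent.AdicFS.SmoothFibres
import Groth.Agent.RegDesc.Basic

/-!
Étale solutions over local G-rings and their localisation versions.
-/

set_option autoImplicit false

universe u

open IsLocalRing

namespace Groth.Agent.ArtinApproxLib

open MvPolynomial (aeval)

theorem map_maximalIdeal_isMaximal {A : Type u} [CommRing A] [IsLocalRing A] [IsNoetherianRing A] :
    ((maximalIdeal A).map (algebraMap A (AdicCompletion (maximalIdeal A) A))).IsMaximal := by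
  rw [← AdicCompletion.ker_evalOneₐ_eq_map _ (maximalIdeal A).fg_of_isNoetherianRing]
  letI : Field (A ⧸ maximalIdeal A) := Ideal.Quotient.field _
  exact RingHom.ker_isMaximal_of_surjective _ (AdicCompletion.evalOneₐ_surjective _)

theorem henselian_map_pow {A : Type u} [CommRing A] [IsLocalRing A] [IsNoetherianRing A] (k : ℕ) :
    HenselianRing (AdicCompletion (maximalIdeal A) A)
      ((maximalIdeal A ^ (k + 1)).map (algebraMap A (AdicCompletion (maximalIdeal A) A))) := by
  haveI : IsAdicComplete ((maximalIdeal A).map (algebraMap A (AdicCompletion (maximalIdeal A) A)))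
      (AdicCompletion (maximalIdeal A) A) :=
    AdicCompletion.isAdicComplete_self _ (maximalIdeal A).fg_of_isNoetherianRing
  haveI : HenselianRing (AdicCompletion (maximalIdeal A) A)
      ((maximalIdeal A).map (algebraMap A (AdicCompletion (maximalIdeal A) A))) := inferInstance
  exact Hensel.of_le (I := (maximalIdeal A).map (algebraMap A (AdicCompletion (maximalIdeal A) A)))
    (Ideal.map_mono (Ideal.pow_le_self (Nat.succ_ne_zero k)))

/-- An étale neighbourhood with a solution, over a local ring with regular completion map. -/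
theorem exists_etale_solution_local {R : Type u} [CommRing R] [IsLocalRing R] [IsNoetherianRing R]
    (hreg : CAlg.IsRegularHom R (AdicCompletion (maximalIdeal R) R)) {n m : ℕ}
    (F : Fin m → MvPolynomial (Fin n) R) (a : Fin n → AdicCompletion (maximalIdeal R) R)
    (ha : ∀ j, aeval a (F j) = 0) (N : ℕ) :
    ∃ (R' : Type u) (_ : CommRing R') (_ : Algebra R R'), Algebra.Etale R R' ∧
      ∃ (ψ : R' →ₐ[R] AdicCompletion (maximalIdeal R) R) (m' : Ideal R'), m'.IsMaximal ∧
        m'.comap (algebraMap R R') = maximalIdeal R ∧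
        (∀ x : R', ∃ r : R, x - algebraMap R R' r ∈ m') ∧
        (∀ x ∈ m', ψ x ∈ (maximalIdeal R).map (algebraMap R (AdicCompletion (maximalIdeal R) R))) ∧
        ∃ b : Fin n → R', (∀ j, aeval b (F j) = 0) ∧
          ∀ i, a i - ψ (b i) ∈ (maximalIdeal R ^ N).map (algebraMap R (AdicCompletion (maximalIdeal R) R)) := by
  let M : Ideal (AdicCompletion (maximalIdeal R) R) :=
    (maximalIdeal R).map (algebraMap R (AdicCompletion (maximalIdeal R) R))
  haveI hM : M.IsMaximal := map_maximalIdeal_isMaximal
  haveI := henselian_map_pow (A := R) N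
  haveI := RegLocal.isNoetherianRing_completion R (maximalIdeal R)
  obtain ⟨B, _, _, hB, b₀, π, hb₀, hπ⟩ := exists_smooth_factor hreg F a ha
  haveI := hB
  obtain ⟨R', _, _, hR', τ, ψ, hψτ, hψI, hres⟩ := exists_etale_solution (maximalIdeal R ^ (N + 1))
    ((maximalIdeal R ^ (N + 1)).map (algebraMap R (AdicCompletion (maximalIdeal R) R))) le_rfl π
    ((AdicCompletion.evalₐ (maximalIdeal R) (N + 1)).comp π) fun x r h =>
      mem_of_evalₐ_eq (maximalIdeal R).fg_of_isNoetherianRing (N + 1) _ _ h
  have hle : (maximalIdeal R ^ (N + 1)).map (algebraMap R (AdicCompletion (maximalIdeal R) R)) ≤ M :=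
    Ideal.map_mono (Ideal.pow_le_self (Nat.succ_ne_zero N))
  let m' : Ideal R' := M.comap ψ.toRingHom
  have hcomap : m'.comap (algebraMap R R') = maximalIdeal R := by
    rw [Ideal.comap_comap, show ψ.toRingHom.comp (algebraMap R R') = algebraMap R _ from RingHom.ext ψ.commutes]
    refine ((IsLocalRing.maximalIdeal.isMaximal R).eq_of_le ?_ Ideal.le_comap_map).symm
    exact Ideal.comap_ne_top _ hM.ne_top
  have hres' : ∀ x : R', ∃ r : R, x - algebraMap R R' r ∈ m' := fun x => by
    obtain ⟨r, hr⟩ := hres x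
    exact ⟨r, hle (hψI _ hr)⟩
  haveI : m'.IsPrime := Ideal.IsPrime.comap ψ.toRingHom
  have hmax : m'.IsMaximal := by
    haveI : (m'.comap (algebraMap R R')).IsMaximal := hcomap ▸ IsLocalRing.maximalIdeal.isMaximal R
    refine Ideal.Quotient.maximal_of_isField _ ?_
    letI : Field (R ⧸ m'.comap (algebraMap R R')) := Ideal.Quotient.field _
    refine (RingEquiv.ofBijective (Ideal.quotientMap m' (algebraMap R R') le_rfl)
      ⟨Ideal.quotientMap_injective, fun y => ?_⟩).symm.toMulEquiv.isField
      (Field.toIsField (R ⧸ m'.comap (algebraMap R R')))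
    obtain ⟨x, rfl⟩ := Ideal.Quotient.mk_surjective y
    obtain ⟨r, hr⟩ := hres' x
    exact ⟨Ideal.Quotient.mk _ r, by rw [Ideal.quotientMap_mk]; exact (Ideal.Quotient.eq.2 hr).symm⟩
  refine ⟨R', inferInstance, inferInstance, hR', ψ, m', hmax, hcomap, hres', fun x hx => hx,
    fun i => τ (b₀ i), fun j => ?_, fun i => ?_⟩
  · rw [← MvPolynomial.comp_aeval, AlgHom.comp_apply, hb₀, map_zero]
  · rw [← hπ i]
    exact Ideal.map_mono (Ideal.pow_le_pow_right (Nat.le_succ N)) (hψτ (b₀ i))

/-- A map into `R_p ⧸ p ^ k` from a finitely presented algebra is defined away from some `s ∉ p`. -/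
theorem exists_section_away {R B : Type u} [CommRing R] [CommRing B] [Algebra R B]
    [Algebra.FinitePresentation R B] (p : Ideal R) [p.IsPrime] {A : Type u} [CommRing A] [Algebra R A]
    [IsLocalization.AtPrime A p] (J : Ideal R) (hJ : J ≤ p)
    (σ : B →ₐ[R] A ⧸ J.map (algebraMap R (A))) :
    ∃ s : R, s ∉ p ∧ ∃ σs : B →ₐ[R] Localization.Away s ⧸ J.map (algebraMap R (Localization.Away s)),
      ∀ (can : Localization.Away s →ₐ[R] A) (x : B) (y : Localization.Away s),
        σs x = Ideal.Quotient.mk _ y → σ x = Ideal.Quotient.mk _ (can y) := by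
  let P : Ideal (R ⧸ J) := p.map (Ideal.Quotient.mk J)
  haveI hP : P.IsPrime := Ideal.map_isPrime_of_surjective Ideal.Quotient.mk_surjective (by rwa [Ideal.mk_ker])
  have hcomapP : P.comap (Ideal.Quotient.mk J) = p := by
    rw [Ideal.comap_map_of_surjective _ Ideal.Quotient.mk_surjective, ← RingHom.ker_eq_comap_bot,
      Ideal.mk_ker, sup_eq_left.2 hJ]
  have hsub : Algebra.algebraMapSubmonoid (R ⧸ J) p.primeCompl = P.primeCompl := by
    ext x
    constructor
    · rintro ⟨r, hr, rfl⟩ hx
      exact hr (hcomapP ▸ Ideal.mem_comap.2 hx)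
    · intro hx
      obtain ⟨r, rfl⟩ := Ideal.Quotient.mk_surjective x
      exact ⟨r, fun hr => hx (Ideal.mem_map_of_mem _ hr), rfl⟩
  haveI : IsLocalization P.primeCompl (A ⧸ J.map (algebraMap R (A))) :=
    hsub ▸ inferInstance
  let e : Localization.AtPrime P ≃ₐ[R ⧸ J] A ⧸ J.map (algebraMap R (A)) :=
    IsLocalization.algEquiv P.primeCompl _ _
  obtain ⟨g, hg, φ, hφ⟩ := SpreadLib.exists_lift_away (R := R) P ((e.symm.restrictScalars R).toAlgHom.comp σ)
  obtain ⟨s, rfl⟩ := Ideal.Quotient.mk_surjective g
  have hs : s ∉ p := fun h => hg (Ideal.mem_map_of_mem _ h)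
  refine ⟨s, hs, ?_⟩
  have hsub' : Algebra.algebraMapSubmonoid (R ⧸ J) (Submonoid.powers s) =
      Submonoid.powers (Ideal.Quotient.mk J s) := Submonoid.map_powers _ s
  haveI : IsLocalization.Away (Ideal.Quotient.mk J s)
      (Localization.Away s ⧸ J.map (algebraMap R (Localization.Away s))) :=
    show IsLocalization (Submonoid.powers (Ideal.Quotient.mk J s)) _ from hsub' ▸ inferInstance
  let es : Localization.Away (Ideal.Quotient.mk J s) ≃ₐ[R ⧸ J]
      Localization.Away s ⧸ J.map (algebraMap R (Localization.Away s)) :=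
    IsLocalization.algEquiv (Submonoid.powers (Ideal.Quotient.mk J s)) _ _
  refine ⟨(es.restrictScalars R).toAlgHom.comp φ, fun can x y hxy => ?_⟩
  let cq : (Localization.Away s ⧸ J.map (algebraMap R (Localization.Away s))) →ₐ[R]
      A ⧸ J.map (algebraMap R (A)) :=
    Ideal.quotientMapₐ _ can (by
      rw [Ideal.map_le_iff_le_comap]
      intro r hr
      rw [Ideal.mem_comap, Ideal.mem_comap]
      rw [can.commutes]
      exact Ideal.mem_map_of_mem _ hr)
  let cq' : (Localization.Away s ⧸ J.map (algebraMap R (Localization.Away s))) →ₐ[R ⧸ J]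
      A ⧸ J.map (algebraMap R (A)) :=
    { cq with
      commutes' := fun q => by
        obtain ⟨r, rfl⟩ := Ideal.Quotient.mk_surjective q
        exact cq.commutes r }
  have h := hφ ((e.symm.toAlgHom.comp cq').comp es.toAlgHom) x
  have h2 := congrArg e h
  change e (e.symm (cq (es (φ x)))) = e (e.symm (σ x)) at h2
  rw [e.apply_symm_apply, e.apply_symm_apply] at h2
  rw [← h2]
  rw [show es (φ x) = Ideal.Quotient.mk _ y from hxy]
  rfl

/-- The localisation version. -/
theorem exists_etale_solution_localization {R : Type u} [CommRing R] [IsNoetherianRing R]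
    (p : Ideal R) [p.IsPrime] {A : Type u} [CommRing A] [IsLocalRing A] [Algebra R A] [IsLocalization.AtPrime A p]
    (hreg : CAlg.IsRegularHom R (AdicCompletion (maximalIdeal (A)) (A)))
    {n m : ℕ} (F : Fin m → MvPolynomial (Fin n) R)
    (a : Fin n → AdicCompletion (maximalIdeal (A)) (A))
    (ha : ∀ j, aeval a (F j) = 0) (N : ℕ) :
    ∃ (R' : Type u) (_ : CommRing R') (_ : Algebra R R'), Algebra.Etale R R' ∧
      ∃ (ψ : R' →ₐ[R] AdicCompletion (maximalIdeal (A)) (A))
        (p' : Ideal R'), p'.IsPrime ∧ p'.comap (algebraMap R R') = p ∧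
        (∀ x : R', ∃ r s : R, s ∉ p ∧ algebraMap R R' s * x - algebraMap R R' r ∈ p') ∧
        (∀ x ∈ p', ψ x ∈ (maximalIdeal (A)).map (algebraMap (A)
          (AdicCompletion (maximalIdeal (A)) (A)))) ∧
        ∃ b : Fin n → R', (∀ j, aeval b (F j) = 0) ∧
          ∀ i, a i - ψ (b i) ∈ (maximalIdeal (A) ^ N).map (algebraMap (A)
            (AdicCompletion (maximalIdeal (A)) (A))) := by
  haveI : IsNoetherianRing A := IsLocalization.isNoetherianRing p.primeCompl A inferInstance
  let M : Ideal (AdicCompletion (maximalIdeal (A)) (A)) :=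
    (maximalIdeal (A)).map (algebraMap (A) _)
  haveI hM : M.IsMaximal := map_maximalIdeal_isMaximal
  haveI := henselian_map_pow (A := A) N
  haveI := RegLocal.isNoetherianRing_completion (A) (maximalIdeal (A))
  obtain ⟨B, _, _, hB, b₀, π, hb₀, hπ⟩ := exists_smooth_factor hreg F a ha
  haveI := hB
  have hpk : maximalIdeal (A) ^ (N + 1) =
      (p ^ (N + 1)).map (algebraMap R (A)) := by
    rw [Ideal.map_pow, IsLocalization.AtPrime.map_eq_maximalIdeal p A]
  let σ : B →ₐ[R] A ⧸ (p ^ (N + 1)).map (algebraMap R (A)) :=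
    ((Ideal.quotientEquivAlgOfEq R hpk).toAlgHom.comp
      ((AdicCompletion.evalₐ (maximalIdeal (A)) (N + 1)).restrictScalars R)).comp π
  obtain ⟨s, hs, σs, hσs⟩ := exists_section_away p (p ^ (N + 1)) (Ideal.pow_le_self (Nat.succ_ne_zero N)) σ
  -- the intermediate base
  let can : Localization.Away s →ₐ[R] A :=
    IsLocalization.liftAlgHom (M := Submonoid.powers s) (f := Algebra.ofId R _) (by
      rintro ⟨_, j, rfl⟩
      exact IsLocalization.map_units _ (⟨s ^ j, Submonoid.pow_mem p.primeCompl hs j⟩ : p.primeCompl))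
  letI : Algebra (Localization.Away s) (AdicCompletion (maximalIdeal (A)) (A)) :=
    ((algebraMap (A) _).comp can.toRingHom).toAlgebra
  haveI : IsScalarTower R (Localization.Away s)
      (AdicCompletion (maximalIdeal (A)) (A)) :=
    IsScalarTower.of_algebraMap_eq fun r => by
      show _ = algebraMap (A) _ (can (algebraMap R _ r))
      rw [can.commutes, ← IsScalarTower.algebraMap_apply]
  let π' : TensorProduct R (Localization.Away s) B →ₐ[Localization.Away s]
      AdicCompletion (maximalIdeal (A)) (A) :=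
    Algebra.TensorProduct.lift (Algebra.ofId _ _) π fun _ _ => Commute.all _ _
  let σ' : TensorProduct R (Localization.Away s) B →ₐ[Localization.Away s]
      Localization.Away s ⧸ (p ^ (N + 1)).map (algebraMap R (Localization.Away s)) :=
    Algebra.TensorProduct.lift (Algebra.ofId _ _) σs fun _ _ => Commute.all _ _
  have hIJ : ((p ^ (N + 1)).map (algebraMap R (Localization.Away s))).map
      (algebraMap (Localization.Away s) (AdicCompletion (maximalIdeal (A)) (A))) ≤
      (maximalIdeal (A) ^ (N + 1)).map (algebraMap (A) _) := by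
    rw [hpk, Ideal.map_map, Ideal.map_map, ← IsScalarTower.algebraMap_eq, ← IsScalarTower.algebraMap_eq]
  have hσ' : ∀ z r, σ' z = Ideal.Quotient.mk _ r → π' z - algebraMap _ _ r ∈
      (maximalIdeal (A) ^ (N + 1)).map (algebraMap (A)
        (AdicCompletion (maximalIdeal (A)) (A))) := by
    intro z
    have main : ∃ r, σ' z = Ideal.Quotient.mk _ r ∧ π' z - algebraMap _ _ r ∈
        (maximalIdeal (A) ^ (N + 1)).map (algebraMap (A)
          (AdicCompletion (maximalIdeal (A)) (A))) := by
      induction z using TensorProduct.induction_on with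
      | zero => exact ⟨0, by simp, by simp⟩
      | tmul c x =>
        obtain ⟨y, hy⟩ := Ideal.Quotient.mk_surjective (σs x)
        have h1 := hσs can x y hy.symm
        have h2 : AdicCompletion.evalₐ (maximalIdeal (A)) (N + 1) (π x) =
            Ideal.Quotient.mk _ (can y) := (Ideal.quotientEquivAlgOfEq R hpk).injective h1
        have h3 := mem_of_evalₐ_eq (maximalIdeal (A)).fg_of_isNoetherianRing (N + 1) _ _ h2
        refine ⟨c * y, ?_, ?_⟩
        · simp [σ', ← hy, map_mul]
        · have h4 := Ideal.mul_mem_left _ (algebraMap (Localization.Away s) (AdicCompletion (maximalIdeal (A)) (A)) c) h3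
          simpa [π', mul_sub, map_mul, RingHom.algebraMap_toAlgebra] using h4
      | add z w hz hw =>
        obtain ⟨r, hr, hr'⟩ := hz
        obtain ⟨q, hq, hq'⟩ := hw
        refine ⟨r + q, by rw [map_add, map_add, hr, hq], ?_⟩
        rw [map_add, map_add, add_sub_add_comm]
        exact add_mem hr' hq'
    intro r hr
    obtain ⟨r₀, hr₀, hmem⟩ := main
    have h1 := hIJ (Ideal.mem_map_of_mem _ (Ideal.Quotient.eq.1 (hr₀.symm.trans hr)))
    rw [map_sub] at h1
    simpa using add_mem hmem h1
  obtain ⟨R', _, _, hR', τ, ψ, hψτ, hψI, hres⟩ := exists_etale_solution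
    ((p ^ (N + 1)).map (algebraMap R (Localization.Away s)))
    ((maximalIdeal (A) ^ (N + 1)).map (algebraMap (A) _)) hIJ π' σ' hσ'
  haveI := hR'
  letI : Algebra R R' := ((algebraMap (Localization.Away s) R').comp (algebraMap R _)).toAlgebra
  haveI : IsScalarTower R (Localization.Away s) R' := IsScalarTower.of_algebraMap_eq fun _ => rfl
  haveI : Algebra.Etale R (Localization.Away s) := Algebra.Etale.of_isLocalizationAway s
  haveI : Algebra.Etale R R' := Algebra.Etale.comp R (Localization.Away s) R'
  have hle : (maximalIdeal (A) ^ (N + 1)).map (algebraMap (A)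
      (AdicCompletion (maximalIdeal (A)) (A))) ≤ M :=
    Ideal.map_mono (Ideal.pow_le_self (Nat.succ_ne_zero N))
  let ψR : R' →ₐ[R] AdicCompletion (maximalIdeal (A)) (A) :=
    ψ.restrictScalars R
  let p' : Ideal R' := M.comap ψR.toRingHom
  refine ⟨R', inferInstance, inferInstance, inferInstance, ψR, p', Ideal.IsPrime.comap _, ?_, ?_,
    fun x hx => hx, fun i => τ (1 ⊗ₜ b₀ i), fun j => ?_, fun i => ?_⟩
  · rw [Ideal.comap_comap, show ψR.toRingHom.comp (algebraMap R R') = algebraMap R _ from RingHom.ext ψR.commutes,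
      IsScalarTower.algebraMap_eq R (A), ← Ideal.comap_comap,
      ← (IsLocalRing.maximalIdeal.isMaximal (A)).eq_of_le
        (Ideal.comap_ne_top _ hM.ne_top) Ideal.le_comap_map]
    exact IsLocalization.AtPrime.comap_maximalIdeal A p
  · intro x
    obtain ⟨q, hq⟩ := hres x
    obtain ⟨⟨r, t⟩, hrt⟩ := IsLocalization.surj (Submonoid.powers s) q
    obtain ⟨j, hj⟩ := t.2
    refine ⟨r, t, fun h => ?_, ?_⟩
    · rw [← hj] at h
      exact hs (Ideal.IsPrime.mem_of_pow_mem inferInstance j h)
    · have h1 := congrArg (algebraMap (Localization.Away s) R') hrt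
      rw [map_mul, ← IsScalarTower.algebraMap_apply, ← IsScalarTower.algebraMap_apply] at h1
      rw [← h1, mul_comm (algebraMap (Localization.Away s) R' q), ← mul_sub]
      exact Ideal.mul_mem_left p' _ (hle (hψI _ hq))
  · let τR : B →ₐ[R] R' := (τ.restrictScalars R).comp Algebra.TensorProduct.includeRight
    show aeval (fun i => τR (b₀ i)) (F j) = 0
    rw [← MvPolynomial.comp_aeval, AlgHom.comp_apply, hb₀, map_zero]
  · rw [← hπ i]
    have h := hψτ (1 ⊗ₜ b₀ i)
    refine Ideal.map_mono (Ideal.pow_le_pow_right (Nat.le_succ N)) ?_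
    simpa [π', ψR] using h

theorem isRegularHom_localization_completion {R : Type u} [CommRing R] [IsNoetherianRing R]
    (p : Ideal R) [p.IsPrime] (hG : CAlg.IsGRing (Localization.AtPrime p)) :
    CAlg.IsRegularHom R (AdicCompletion (maximalIdeal (Localization.AtPrime p)) (Localization.AtPrime p)) := by
  haveI := RegLocal.isNoetherianRing_completion (Localization.AtPrime p) (maximalIdeal (Localization.AtPrime p))
  have hRR : CAlg.IsRegularHom R R := AdicFS.isRegularHom_of_smooth
  haveI : IsLocalization (⊥ : Submonoid R) R := IsLocalization.self fun x hx => by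
    rw [Submonoid.mem_bot] at hx; subst hx; exact isUnit_one
  have h1 : CAlg.IsRegularHom R (Localization.AtPrime p) :=
    RegHomLib.isRegularHom_localization hRR (⊥ : Submonoid R) R p.primeCompl (Localization.AtPrime p)
  exact RegDesc.isRegularHom_comp R (Localization.AtPrime p) _ h1
    (GRingCompleteLib.isRegularHom_adicCompletion _ hG _)

end Groth.Agent.ArtinApproxLib
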