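import Groth.Agent.ArtinApproxLib.GRing
import Groth.Agent.GRingCompleteLib.Descend
import Groth.Agent.ExcLib.Localization

/-!
Étale neighbourhoods approximating a map into the completion of a local ring.
-/

set_option autoImplicit false

universe u

open IsLocalRing

namespace Groth.Agent.ArtinApproxLib

open MvPolynomial (aeval)

/-- The completion map at a prime is regular when the local ring is a G-ring. -/
theorem isRegularHom_atPrime_completion {R : Type u} [CommRing R] [IsNoetherianRing R] (p : Ideal R) [p.IsPrime]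
    {A : Type u} [CommRing A] [IsLocalRing A] [Algebra R A] [IsLocalization.AtPrime A p] (hG : CAlg.IsGRing A) :
    CAlg.IsRegularHom R (AdicCompletion (maximalIdeal A) A) := by
  haveI := hG.1
  haveI := RegLocal.isNoetherianRing_completion A (maximalIdeal A)
  have hRR : CAlg.IsRegularHom R R := AdicFS.isRegularHom_of_smooth
  haveI : IsLocalization (⊥ : Submonoid R) R := IsLocalization.self fun x hx => by
    rw [Submonoid.mem_bot] at hx; subst hx; exact isUnit_one
  exact RegDesc.isRegularHom_comp R A _
    (RegHomLib.isRegularHom_localization hRR (⊥ : Submonoid R) R p.primeCompl A)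
    (GRingCompleteLib.isRegularHom_adicCompletion _ hG _)

/-- A local ring of a finite type algebra over a ring with a G-ring local ring is a G-ring. -/
theorem isGRing_atPrime {R C : Type u} [CommRing R] [CommRing C] [Algebra R C] [Algebra.FiniteType R C]
    (p : Ideal R) [p.IsPrime] (P : Ideal C) [P.IsPrime] (hP : P.comap (algebraMap R C) = p)
    {Rp : Type u} [CommRing Rp] [Algebra R Rp] [IsLocalization.AtPrime Rp p] (hG : CAlg.IsGRing Rp)
    (A : Type u) [CommRing A] [Algebra C A] [IsLocalization.AtPrime A P] : CAlg.IsGRing A := by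
  let T := TensorProduct R Rp C
  have hT : CAlg.IsGRing (TensorProduct R Rp C) := GRingCompleteLib.isGRing_of_finiteType Rp hG (TensorProduct R Rp C)
  letI : Algebra C (TensorProduct R Rp C) := Algebra.TensorProduct.rightAlgebra
  letI : Algebra R A := ((algebraMap C A).comp (algebraMap R C)).toAlgebra
  haveI : IsScalarTower R C A := IsScalarTower.of_algebraMap_eq fun _ => rfl
  have hle : Algebra.algebraMapSubmonoid C p.primeCompl ≤ P.primeCompl := by
    rintro _ ⟨r, hr, rfl⟩ hr'
    exact hr (hP ▸ Ideal.mem_comap.2 hr')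
  haveI : IsLocalization (Algebra.algebraMapSubmonoid C p.primeCompl) (TensorProduct R Rp C) :=
    (Algebra.isLocalization_iff_isPushout p.primeCompl Rp).2 inferInstance
  letI : Algebra (TensorProduct R Rp C) A :=
    (IsLocalization.lift (M := Algebra.algebraMapSubmonoid C p.primeCompl) (g := algebraMap C A)
      fun y => IsLocalization.map_units A (⟨y.1, hle y.2⟩ : P.primeCompl)).toAlgebra
  haveI : IsScalarTower C (TensorProduct R Rp C) A :=
    IsScalarTower.of_algebraMap_eq fun c => (IsLocalization.lift_eq _ c).symm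
  haveI := IsLocalization.isLocalization_of_submonoid_le (TensorProduct R Rp C) A
    (Algebra.algebraMapSubmonoid C p.primeCompl) P.primeCompl hle
  exact ExcLib.isGRing_of_isLocalization (P.primeCompl.map (algebraMap C (TensorProduct R Rp C))) hT

/-- An étale neighbourhood on which a map into the completion is approximated. -/
theorem exists_nbhd_approx {R₀ C B : Type u} [CommRing R₀] [CommRing C] [IsNoetherianRing C] [CommRing B]
    [Algebra R₀ C] [Algebra R₀ B] [Algebra.FinitePresentation R₀ B] (P : Ideal C) [P.IsPrime]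
    {A : Type u} [CommRing A] [IsLocalRing A] [Algebra C A] [IsLocalization.AtPrime A P] (hG : CAlg.IsGRing A)
    (f₀ : B →+* AdicCompletion (maximalIdeal A) A)
    (hf₀ : ∀ r, f₀ (algebraMap R₀ B r) = algebraMap A _ (algebraMap C A (algebraMap R₀ C r)))
    (N : ℕ) (hN : 1 ≤ N) :
    ∃ (C' : Type u) (_ : CommRing C') (_ : Algebra C C'), Algebra.Etale C C' ∧
      ∃ (p' : Ideal C') (_ : p'.IsPrime) (g : B →+* C'),
        p'.comap (algebraMap C C') = P ∧
        (∀ x : C', ∃ r s : C, s ∉ P ∧ algebraMap C C' s * x - algebraMap C C' r ∈ p') ∧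
        (∀ r, g (algebraMap R₀ B r) = algebraMap C C' (algebraMap R₀ C r)) ∧
        (∀ b, g b ∈ p' ↔ f₀ b ∈ (maximalIdeal A).map (algebraMap A (AdicCompletion (maximalIdeal A) A))) ∧
        ∀ (L : Type u) [CommRing L] [IsLocalRing L] [Algebra C' L] [IsLocalization.AtPrime L p']
          (b s : B) (c d : C),
          f₀ b * algebraMap A _ (algebraMap C A d) - f₀ s * algebraMap A _ (algebraMap C A c) ∈
            (maximalIdeal A ^ N).map (algebraMap A (AdicCompletion (maximalIdeal A) A)) →
          algebraMap C' L (g b * algebraMap C C' d - g s * algebraMap C C' c) ∈ maximalIdeal L ^ N := by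
  classical
  haveI := hG.1
  obtain ⟨n, π, hπ, rel, hrel⟩ := Algebra.FinitePresentation.out (R := R₀) (A := B)
  let F : Fin rel.card → MvPolynomial (Fin n) C := fun j => MvPolynomial.map (algebraMap R₀ C) (rel.equivFin.symm j).1
  let J : Ideal (AdicCompletion (maximalIdeal A) A) :=
    (maximalIdeal A ^ N).map (algebraMap A (AdicCompletion (maximalIdeal A) A))
  let M : Ideal (AdicCompletion (maximalIdeal A) A) :=
    (maximalIdeal A).map (algebraMap A (AdicCompletion (maximalIdeal A) A))
  haveI hM : M.IsMaximal := map_maximalIdeal_isMaximal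
  have hJM : J ≤ M := Ideal.map_mono (Ideal.pow_le_self (Nat.one_le_iff_ne_zero.1 hN))
  let a : Fin n → AdicCompletion (maximalIdeal A) A := fun i => f₀ (π (MvPolynomial.X i))
  have heval : ∀ p, aeval a (MvPolynomial.map (algebraMap R₀ C) p) = f₀ (π p) := by
    intro p
    refine RingHom.congr_fun (?_ : (aeval a).toRingHom.comp (MvPolynomial.map (algebraMap R₀ C)) =
      f₀.comp π.toRingHom) p
    refine MvPolynomial.ringHom_ext (fun r => ?_) (fun i => ?_)
    · simp only [RingHom.comp_apply, AlgHom.toRingHom_eq_coe, RingHom.coe_coe, MvPolynomial.map_C,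
        MvPolynomial.aeval_C]
      rw [← MvPolynomial.algebraMap_eq, π.commutes, hf₀]
      exact IsScalarTower.algebraMap_apply C A _ _
    · simp [a]
  obtain ⟨C', _, _, hC', ψ, p', hp', hcomap, hres, hψp, b', hb', hab⟩ :=
    exists_etale_solution_localization P (isRegularHom_atPrime_completion P hG) F a (fun j => by
      rw [heval, show π (rel.equivFin.symm j).1 = 0 from
        RingHom.mem_ker.1 (hrel ▸ Ideal.subset_span (rel.equivFin.symm j).2), map_zero]) N
  haveI := hC'
  letI : Algebra R₀ C' := ((algebraMap C C').comp (algebraMap R₀ C)).toAlgebra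
  haveI : IsScalarTower R₀ C C' := IsScalarTower.of_algebraMap_eq fun _ => rfl
  have hker : RingHom.ker π.toRingHom ≤ RingHom.ker (aeval (R := R₀) b').toRingHom := by
    rw [← hrel, Ideal.span_le]
    intro p hp
    have h := hb' (rel.equivFin ⟨p, hp⟩)
    simp only [F, Equiv.symm_apply_apply, MvPolynomial.aeval_map_algebraMap] at h
    exact h
  let g : B →ₐ[R₀] C' := AlgHom.liftOfSurjective π hπ (aeval b') hker
  have hcong : ∀ x, ψ (g x) - f₀ x ∈ J := by
    intro x
    obtain ⟨p, rfl⟩ := hπ x
    rw [AlgHom.liftOfSurjective_apply]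
    rw [← Ideal.Quotient.eq]
    refine RingHom.congr_fun (?_ : ((Ideal.Quotient.mk J).comp ψ.toRingHom).comp (aeval (R := R₀) b').toRingHom =
      ((Ideal.Quotient.mk J).comp f₀).comp π.toRingHom) p
    refine MvPolynomial.ringHom_ext (fun r => ?_) (fun i => ?_)
    · simp only [RingHom.comp_apply, AlgHom.toRingHom_eq_coe, RingHom.coe_coe, MvPolynomial.aeval_C]
      rw [← MvPolynomial.algebraMap_eq, π.commutes, hf₀]
      congr 1
      exact (ψ.commutes (algebraMap R₀ C r)).trans (IsScalarTower.algebraMap_apply C A _ _)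
    · simp only [RingHom.comp_apply, AlgHom.toRingHom_eq_coe, RingHom.coe_coe, MvPolynomial.aeval_X]
      rw [Ideal.Quotient.eq, ← neg_sub]
      exact neg_mem (hab i)
  have hMp : ∀ x, ψ x ∈ M → x ∈ p' := by
    intro x hx
    obtain ⟨r, s, hs, hrs⟩ := hres x
    have h1 : ψ (algebraMap C C' r) ∈ M := by
      have h2 := hψp _ hrs
      rw [map_sub, map_mul] at h2
      simpa using sub_mem (Ideal.mul_mem_left M (ψ (algebraMap C C' s)) hx) h2
    have hr : r ∈ P := by
      rw [ψ.commutes, IsScalarTower.algebraMap_apply C A _] at h1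
      rw [← IsLocalization.AtPrime.comap_maximalIdeal A P, Ideal.mem_comap]
      exact ((IsLocalRing.maximalIdeal.isMaximal A).eq_of_le (Ideal.comap_ne_top _ hM.ne_top)
        Ideal.le_comap_map).ge h1
    have h2 : algebraMap C C' s * x ∈ p' := by
      simpa using add_mem hrs (Ideal.mem_comap.1 (hcomap.ge hr))
    exact (hp'.mem_or_mem h2).resolve_left fun h => hs (hcomap.le (Ideal.mem_comap.2 h))
  refine ⟨C', inferInstance, inferInstance, hC', p', hp', g.toRingHom, hcomap, hres, fun r => g.commutes r,
    fun b => ⟨fun h => ?_, fun h => hMp _ ?_⟩, fun L _ _ _ _ b s c d hbc => ?_⟩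
  · simpa using sub_mem (hψp _ h) (hJM (hcong b))
  · simpa using add_mem h (hJM (hcong b))
  -- congruences descend to the local ring
  letI : Algebra C L := ((algebraMap C' L).comp (algebraMap C C')).toAlgebra
  haveI : IsScalarTower C C' L := IsScalarTower.of_algebraMap_eq fun _ => rfl
  have hL : Ideal.comap (algebraMap C' L) (maximalIdeal L) = p' := IsLocalization.AtPrime.under_maximalIdeal L p'
  letI : Algebra A L := (IsLocalization.lift (M := P.primeCompl) (g := algebraMap C L) fun y =>
    IsLocalization.map_units L (⟨algebraMap C C' y.1, fun h => y.2 (hcomap.le (Ideal.mem_comap.2 h))⟩ : p'.primeCompl)).toAlgebra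
  haveI : IsScalarTower C A L := IsScalarTower.of_algebraMap_eq fun c => (IsLocalization.lift_eq _ c).symm
  haveI : IsLocalHom (algebraMap A L) := by
    refine ((local_hom_TFAE (algebraMap A L)).out 0 4 rfl rfl).mpr ?_
    refine ((IsLocalRing.maximalIdeal.isMaximal A).eq_of_le (Ideal.comap_ne_top _ (Ideal.IsPrime.ne_top inferInstance)) ?_).symm
    rw [← IsLocalization.AtPrime.map_eq_maximalIdeal P A, Ideal.map_le_iff_le_comap, Ideal.comap_comap,
      ← IsScalarTower.algebraMap_eq, IsScalarTower.algebraMap_eq C C' L, ← Ideal.comap_comap,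
      hL, hcomap]
  haveI : Algebra.FormallyUnramified C L :=
    haveI : Algebra.FormallyUnramified C' L := Algebra.FormallyUnramified.of_isLocalization p'.primeCompl
    Algebra.FormallyUnramified.comp C C' L
  haveI : Algebra.FormallyUnramified A L := Algebra.FormallyUnramified.of_restrictScalars C A L
  haveI : Algebra.EssFiniteType C L :=
    haveI : Algebra.EssFiniteType C' L := Algebra.EssFiniteType.of_isLocalization L p'.primeCompl
    Algebra.EssFiniteType.comp C C' L
  haveI : Algebra.EssFiniteType A L := Algebra.EssFiniteType.of_comp C A L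
  have hmax : (maximalIdeal A).map (algebraMap A L) = maximalIdeal L := Algebra.FormallyUnramified.map_maximalIdeal
  -- residues come from `A`
  have hres' : ∀ z : L, ∃ x : A, z - algebraMap A L x ∈ maximalIdeal L := by
    intro z
    obtain ⟨u, v, rfl⟩ := IsLocalization.exists_mk'_eq p'.primeCompl z
    obtain ⟨r, t, ht, hu⟩ := hres u
    obtain ⟨r', t', ht', hv⟩ := hres v
    have hr' : r' ∉ P := fun h => by
      have h1 : algebraMap C C' t' * v ∈ p' := by simpa using add_mem hv (Ideal.mem_comap.1 (hcomap.ge h))
      exact (hp'.mem_or_mem h1).elim (fun h2 => ht' (hcomap.le (Ideal.mem_comap.2 h2))) v.2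
    refine ⟨IsLocalization.mk' A (r * t') (⟨t * r', P.primeCompl.mul_mem ht hr'⟩ : P.primeCompl), ?_⟩
    have hunit : IsUnit (algebraMap C' L (v * algebraMap C C' (t * r'))) := by
      refine IsLocalization.map_units L (⟨_, p'.primeCompl.mul_mem v.2 fun h => ?_⟩ : p'.primeCompl)
      exact P.primeCompl.mul_mem ht hr' (hcomap.le (Ideal.mem_comap.2 h))
    rw [← Ideal.mul_unit_mem_iff_mem _ hunit]
    have h1 : algebraMap A L (IsLocalization.mk' A (r * t') (⟨t * r', P.primeCompl.mul_mem ht hr'⟩ : P.primeCompl)) *
        algebraMap C' L (algebraMap C C' (t * r')) = algebraMap C' L (algebraMap C C' (r * t')) := by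
      rw [← IsScalarTower.algebraMap_apply C C' L, ← IsScalarTower.algebraMap_apply C C' L,
        IsScalarTower.algebraMap_apply C A L, ← map_mul, IsLocalization.mk'_spec_mk, ← IsScalarTower.algebraMap_apply]
    have h2 : IsLocalization.mk' L u v * algebraMap C' L v = algebraMap C' L u := IsLocalization.mk'_spec L u v
    have h3 : (IsLocalization.mk' L u v - algebraMap A L (IsLocalization.mk' A (r * t') (⟨t * r', P.primeCompl.mul_mem ht hr'⟩ : P.primeCompl))) *
        algebraMap C' L (v * algebraMap C C' (t * r')) =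
        algebraMap C' L (u * algebraMap C C' (t * r') - v * algebraMap C C' (r * t')) := by
      rw [sub_mul, map_mul (algebraMap C' L) (v : C'), ← mul_assoc, h2, mul_left_comm, h1]
      simp only [map_sub, map_mul]
    rw [h3, ← Ideal.mem_comap, hL]
    have h4 : (u * algebraMap C C' (t * r') - v * algebraMap C C' (r * t') : C') =
        algebraMap C C' r' * (algebraMap C C' t * u - algebraMap C C' r) -
          algebraMap C C' r * (algebraMap C C' t' * v - algebraMap C C' r') := by
      simp only [map_mul]; ring
    rw [h4]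
    exact sub_mem (Ideal.mul_mem_left _ _ hu) (Ideal.mul_mem_left _ _ hv)
  have happrox : ∀ k : ℕ, ∀ z : L, ∃ x : A, z - algebraMap A L x ∈ maximalIdeal L ^ k := by
    intro k
    induction k with
    | zero => exact fun z => ⟨0, by simp⟩
    | succ k ih =>
      intro z
      obtain ⟨x, hx⟩ := ih z
      suffices ∀ w ∈ (maximalIdeal A ^ k).map (algebraMap A L), ∃ x, w - algebraMap A L x ∈ maximalIdeal L ^ (k + 1) by
        obtain ⟨y, hy⟩ := this (z - algebraMap A L x) (by rw [Ideal.map_pow, hmax]; exact hx)
        exact ⟨x + y, by rwa [map_add, ← sub_sub]⟩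
      intro w hw
      induction hw using Submodule.span_induction with
      | mem w hw => obtain ⟨m, -, rfl⟩ := hw; exact ⟨m, by simp⟩
      | zero => exact ⟨0, by simp⟩
      | add v w _ _ hv hw =>
        obtain ⟨x, hx⟩ := hv
        obtain ⟨y, hy⟩ := hw
        exact ⟨x + y, by rw [map_add, add_sub_add_comm]; exact add_mem hx hy⟩
      | smul z w hwmem hw =>
        obtain ⟨y, hy⟩ := hw
        obtain ⟨x, hx⟩ := hres' z
        refine ⟨x * y, ?_⟩
        have hwk : w ∈ maximalIdeal L ^ k := by
          rw [← hmax, ← Ideal.map_pow]; exact hwmem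
        have h1 : (z - algebraMap A L x) * w ∈ maximalIdeal L ^ (k + 1) := by
          rw [pow_succ']; exact Ideal.mul_mem_mul hx hwk
        have : z • w - algebraMap A L (x * y) = (z - algebraMap A L x) * w + algebraMap A L x * (w - algebraMap A L y) := by
          rw [smul_eq_mul, map_mul]; ring
        rw [this]
        exact add_mem h1 (Ideal.mul_mem_left _ _ hy)
  -- extend `ψ`
  have hψu : ∀ v : p'.primeCompl, IsUnit (ψ v) := fun v => by
    haveI : IsAdicComplete M (AdicCompletion (maximalIdeal A) A) :=
      AdicCompletion.isAdicComplete_self _ (maximalIdeal A).fg_of_isNoetherianRing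
    refine Hensel.isUnit_of_quotient (I := M) (IsAdicComplete.le_jacobson_bot _) ?_
    letI := Ideal.Quotient.field M
    rw [isUnit_iff_ne_zero, Ne, Ideal.Quotient.eq_zero_iff_mem]
    exact fun h => v.2 (hMp _ h)
  let Ψ : L →+* AdicCompletion (maximalIdeal A) A := IsLocalization.lift (M := p'.primeCompl) (g := ψ.toRingHom) hψu
  have hΨ : ∀ x, Ψ (algebraMap C' L x) = ψ x := fun x => IsLocalization.lift_eq _ x
  have hΨA : ∀ x, Ψ (algebraMap A L x) = algebraMap A _ x := by
    intro x
    refine RingHom.congr_fun (?_ : Ψ.comp (algebraMap A L) = algebraMap A _) x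
    refine IsLocalization.ringHom_ext P.primeCompl (RingHom.ext fun c => ?_)
    simp only [RingHom.comp_apply]
    rw [← IsScalarTower.algebraMap_apply C A L, IsScalarTower.algebraMap_apply C C' L, hΨ, ψ.commutes,
      IsScalarTower.algebraMap_apply C A _]
  set z := algebraMap C' L (g.toRingHom b * algebraMap C C' d - g.toRingHom s * algebraMap C C' c) with hz
  have hzJ : Ψ z ∈ J := by
    rw [hz, hΨ, map_sub, map_mul, map_mul, ψ.commutes, ψ.commutes,
      IsScalarTower.algebraMap_apply C A _ d, IsScalarTower.algebraMap_apply C A _ c]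
    have h := add_mem hbc (sub_mem (Ideal.mul_mem_right (algebraMap A _ (algebraMap C A d)) J (hcong b))
      (Ideal.mul_mem_right (algebraMap A _ (algebraMap C A c)) J (hcong s)))
    convert h using 1
    show ψ (g b) * _ - ψ (g s) * _ = _
    ring
  obtain ⟨x, hx⟩ := happrox N z
  have hxJ : algebraMap A (AdicCompletion (maximalIdeal A) A) x ∈ J := by
    have h1 : Ψ (z - algebraMap A L x) ∈ J := by
      have hle : maximalIdeal L ^ N ≤ J.comap Ψ := by
        rw [← hmax, ← Ideal.map_pow, Ideal.map_le_iff_le_comap]
        intro y hy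
        rw [Ideal.mem_comap, Ideal.mem_comap, hΨA]
        exact Ideal.mem_map_of_mem _ hy
      exact hle hx
    rw [map_sub, hΨA] at h1
    simpa using sub_mem hzJ h1
  have hxN : x ∈ maximalIdeal A ^ N := by
    rw [← CMCat.evalₐ_eq_zero_iff (maximalIdeal A).fg_of_isNoetherianRing, AlgHom.commutes] at hxJ
    exact Ideal.Quotient.eq_zero_iff_mem.1 hxJ
  have h2 : algebraMap A L x ∈ maximalIdeal L ^ N := by
    rw [← hmax, ← Ideal.map_pow]
    exact Ideal.mem_map_of_mem _ hxN
  simpa using add_mem hx h2

end Groth.Agent.ArtinApproxLib
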